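import Groth.Agent.ValTrivLib.Alg
import Groth.Agent.CohCmpLib.LiftSection
import Groth.Agent.S11133
import Groth.Agent.S9501
import Groth.Agent.QCohLib.QcqsSections
import Groth.Agent.TwistLib.SpecSections
import Groth.Agent.AlgSpLib.ReducedStalk

/-!
# Invertible modules over a valuation ring that are trivial on the generic fibre
-/

set_option autoImplicit false
set_option backward.isDefEq.respectTransparency false
set_option maxHeartbeats 1000000
universe u

open CategoryTheory CategoryTheory.Limits AlgebraicGeometry TopologicalSpace Opposite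
open KFlatLib (puSec puSecLE pb)
open AmpleLib (res GenOn GenAt)

noncomputable section

namespace ValTrivLib

/-- An isomorphism carries a generator to a generator. -/
theorem genOn_map_iso {Y : Scheme.{u}} {M N : Y.Modules} (φ : M ≅ N) {W : Y.Opens} {σ : Γ(M, W)} (h : GenOn M σ) :
    GenOn N (φ.hom.app W σ) := by
  intro V hV
  have e : (fun r : Γ(Y, V) => r • res N hV (φ.hom.app W σ)) =
      ⇑(φ.hom.app V) ∘ fun r : Γ(Y, V) => r • res M hV σ := funext fun r => by
    show r • res N hV (φ.hom.app W σ) = φ.hom.app V (r • res M hV σ)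
    rw [Scheme.Modules.Hom.app_smul]
    exact congrArg (r • ·) (NatTrans.naturality_apply φ.hom.mapPresheaf (homOfLE hV).op σ).symm
  rw [e]
  exact (ConcreteCategory.bijective_of_isIso (φ.hom.app V)).comp (h V hV)

variable {A : Type u} [CommRing A] [IsDomain A] {X : Scheme.{u}} (f : X ⟶ Spec (CommRingCat.of A))

/-- The scalars as global functions. -/
def scal : A →+* Γ(X, ⊤) := f.appTop.hom.comp (Scheme.ΓSpecIso (CommRingCat.of A)).inv.hom

/-- The scalars as functions on an open. -/
def scalOn (V : X.Opens) : A →+* Γ(X, V) := (X.presheaf.map (homOfLE le_top).op).hom.comp (scal f)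

/-- The scalars in a local ring. -/
def scalAt (x : X) : A →+* X.presheaf.stalk x := (X.presheaf.germ ⊤ x trivial).hom.comp (scal f)

omit [IsDomain A] in
theorem map_scalOn {V W : X.Opens} (h : W ≤ V) (a : A) :
    X.presheaf.map (homOfLE h).op (scalOn f V a) = scalOn f W a := by
  show (X.presheaf.map _ ≫ X.presheaf.map _) (scal f a) = _
  rw [← Functor.map_comp]
  rfl

omit [IsDomain A] in
theorem germ_scalOn {V : X.Opens} {x : X} (hx : x ∈ V) (a : A) :
    X.presheaf.germ V x hx (scalOn f V a) = scalAt f x a :=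
  TopCat.Presheaf.germ_res_apply X.presheaf _ x hx _

omit [IsDomain A] in
theorem mem_basicOpen_scal (x : X) (a : A) :
    x ∈ X.basicOpen (scal f a) ↔ a ∉ (f x).asIdeal := by
  show x ∈ X.basicOpen (f.appTop ((Scheme.ΓSpecIso (CommRingCat.of A)).inv a)) ↔ _
  rw [← Scheme.preimage_basicOpen_top]
  show f x ∈ (Spec (CommRingCat.of A)).basicOpen _ ↔ _
  rw [basicOpen_eq_of_affine']
  simp only [Iso.inv_hom_id_apply]
  exact PrimeSpectrum.mem_basicOpen _ _

omit [IsDomain A] in
theorem isUnit_scalAt_iff (x : X) (a : A) : IsUnit (scalAt f x a) ↔ a ∉ (f x).asIdeal :=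
  (Scheme.mem_basicOpen X (scal f a) x trivial).symm.trans (mem_basicOpen_scal f x a)

theorem flat_scalAt [Flat f] (x : X) : (scalAt f x).Flat := by
  obtain ⟨V, hV, hxV⟩ := QCohLib.exists_affine_nhd x
  letI := (X.presheaf.germ V x hxV).hom.toAlgebra
  haveI := hV.isLocalization_stalk ⟨x, hxV⟩
  haveI := IsLocalization.flat (X.presheaf.stalk x) (hV.primeIdealOf ⟨x, hxV⟩).asIdeal.primeCompl
  have h1 : (X.presheaf.germ V x hxV).hom.Flat := ‹_›
  have h2 : (f.appLE ⊤ V le_top).hom.Flat := Flat.flat_appLE f (isAffineOpen_top _) hV le_top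
  have h3 : (Scheme.ΓSpecIso (CommRingCat.of A)).inv.hom.Flat :=
    RingHom.Flat.of_bijective (ConcreteCategory.bijective_of_isIso (Scheme.ΓSpecIso (CommRingCat.of A)).inv)
  have h := (h3.comp h2).comp h1
  convert h using 1
  ext a
  exact (germ_scalOn f hxV a).symm

theorem essFiniteType_scalAt [LocallyOfFiniteType f] (x : X) : (scalAt f x).EssFiniteType := by
  obtain ⟨V, hV, hxV⟩ := QCohLib.exists_affine_nhd x
  letI := (X.presheaf.germ V x hxV).hom.toAlgebra
  haveI := hV.isLocalization_stalk ⟨x, hxV⟩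
  have h1 : (X.presheaf.germ V x hxV).hom.EssFiniteType :=
    Algebra.EssFiniteType.of_isLocalization _ (hV.primeIdealOf ⟨x, hxV⟩).asIdeal.primeCompl
  have h2 : (f.appLE ⊤ V le_top).hom.FiniteType := f.finiteType_appLE (isAffineOpen_top _) hV le_top
  have h3 : (Scheme.ΓSpecIso (CommRingCat.of A)).inv.hom.FiniteType :=
    RingHom.FiniteType.of_surjective _ (ConcreteCategory.bijective_of_isIso (Scheme.ΓSpecIso (CommRingCat.of A)).inv).2
  have h23 : ((f.appLE ⊤ V le_top).hom.comp (Scheme.ΓSpecIso (CommRingCat.of A)).inv.hom).FiniteType := h2.comp h3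
  have h := RingHom.EssFiniteType.comp h23.essFiniteType h1
  convert h using 1
  ext a
  exact (germ_scalOn f hxV a).symm

theorem cancel_scalAt [Flat f] (x : X) {a : A} (ha : a ≠ 0) {s t : X.presheaf.stalk x}
    (h : scalAt f x a * s = scalAt f x a * t) : s = t := by
  letI := (scalAt f x).toAlgebra
  haveI : Module.Flat A (X.presheaf.stalk x) := flat_scalAt f x
  exact mul_cancel ha h

/-- A multiplication by a nonzero scalar is injective on sections of an invertible module. -/
theorem cancel_smul [Flat f] {L : X.Modules} (hL : PicF.IsInvertible L) {V : X.Opens} {a : A} (ha : a ≠ 0)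
    {s t : Γ(L, V)} (h : scalOn f V a • s = scalOn f V a • t) : s = t := by
  refine TwistLib.mod_ext L fun x hx => ?_
  obtain ⟨U, e, hxU, he⟩ := TwistLib.exists_genOn hL x
  obtain ⟨α, hα⟩ := (he.genAt hxU).2 (L.presheaf.germ V x hx s)
  obtain ⟨β, hβ⟩ := (he.genAt hxU).2 (L.presheaf.germ V x hx t)
  have h' := congrArg (L.presheaf.germ V x hx) h
  rw [AmpleLib.germ_smul, AmpleLib.germ_smul, ← hα, ← hβ, smul_smul, smul_smul, germ_scalOn f hx a] at h'
  rw [← hα, ← hβ, cancel_scalAt f x ha ((he.genAt hxU).1 h')]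

theorem flat_fromSpecResidueField_generic {S : Scheme.{u}} [IsIntegral S] :
    Flat (S.fromSpecResidueField (genericPoint ↑S)) := by
  haveI : IsIso (S.residue (genericPoint ↑S)) := by
    refine (ConcreteCategory.isIso_iff_bijective _).2 ⟨?_, Scheme.residue_surjective _ _⟩
    exact (show S.functionField →+* S.residueField (genericPoint ↑S) from (S.residue (genericPoint ↑S)).hom).injective
  show Flat (Spec.map (S.residue (genericPoint ↑S)) ≫ S.fromSpecStalk (genericPoint ↑S))
  haveI : Flat (S.fromSpecStalk (genericPoint ↑S)) := AlgSpLib.flat_fromSpecStalk _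
  infer_instance

theorem asIdeal_genericPoint : (genericPoint ↑(Spec (CommRingCat.of A))).asIdeal = ⊥ := by
  rw [genericPoint_eq_bot_of_affine]
  rfl

omit [IsDomain A] in
/-- A generization of a point lies in a basic open according to the germ. -/
theorem mem_basicOpen_stalk {z : X} (p : Spec (X.presheaf.stalk z)) {V : X.Opens} (hzV : z ∈ V) (g : Γ(X, V)) :
    X.fromSpecStalk z p ∈ X.basicOpen g ↔ X.presheaf.germ V z hzV g ∉ p.asIdeal := by
  have hV : X.fromSpecStalk z p ∈ V := by
    have : X.fromSpecStalk z p ∈ Set.range (X.fromSpecStalk z) := ⟨p, rfl⟩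
    rw [Scheme.range_fromSpecStalk] at this
    exact Specializes.mem_open (this : X.fromSpecStalk z p ⤳ z) V.2 hzV
  show p ∈ (X.fromSpecStalk z) ⁻¹ᵁ X.basicOpen g ↔ _
  rw [Scheme.preimage_basicOpen, Scheme.fromSpecStalk_app hzV]
  simp only [CommRingCat.comp_apply, Scheme.basicOpen_res]
  rw [Opens.mem_inf, basicOpen_eq_of_affine']
  simp only [Iso.inv_hom_id_apply]
  exact ⟨fun h => (PrimeSpectrum.mem_basicOpen _ _).1 h.2, fun h => ⟨hV, (PrimeSpectrum.mem_basicOpen _ _).2 h⟩⟩

variable [IsProper f] [Flat f] [LocallyOfFinitePresentation f] {L : X.Modules}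

/-- A global section generating over the generic point. -/
theorem exists_section (hL : PicF.IsInvertible L)
    (htriv : Nonempty ((Scheme.Modules.pullback (f.fiberι (genericPoint ↑(Spec (CommRingCat.of A))))).obj L ≅
      Coh.structureModule (f.fiber (genericPoint ↑(Spec (CommRingCat.of A)))))) :
    ∃ s : Γ(L, ⊤), ∀ w : X, (f w).asIdeal = ⊥ → GenAt L s (show w ∈ (⊤ : X.Opens) from trivial) := by
  haveI : Coh.IsQCoh L := TwistLib.isQCoh_of_isInvertible hL
  let η := genericPoint ↑(Spec (CommRingCat.of A))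
  obtain ⟨φ⟩ := htriv
  let e : Γ((Scheme.Modules.pullback (f.fiberι η)).obj L, ⊤) := φ.inv.app ⊤ (1 : Γ(f.fiber η, ⊤))
  have he : GenOn ((Scheme.Modules.pullback (f.fiberι η)).obj L) e := genOn_map_iso φ.symm (AmpleLib.one_genOn ⊤)
  have hbc : IsIso (CohBC.bc0 f ((Spec (CommRingCat.of A)).fromSpecResidueField η) (f.fiberToSpecResidueField η)
      (f.fiberι η) (f.fiber_fac η) L) := by
    haveI := flat_fromSpecResidueField_generic (S := Spec (CommRingCat.of A))
    have h := Groth.Agent.S11133.result f ((Spec (CommRingCat.of A)).fromSpecResidueField η) (f.fiberι η)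
      (f.fiberToSpecResidueField η) (IsPullback.of_hasPullback f _) L
    simp only [Functor.map_comp, Category.assoc, Iso.trans_hom, Iso.symm_hom, NatTrans.comp_app] at h
    unfold CohBC.bc0
    rw [Adjunction.homEquiv_counit]
    simp only [CohBC.bc0Adj, Functor.map_comp, Category.assoc]
    exact h
  obtain ⟨O, hηO, hle, m, hm⟩ := CohCmpLib.exists_lift_section f η inferInstance e
  obtain ⟨_, ⟨a, rfl⟩, haη, haO⟩ := PrimeSpectrum.isTopologicalBasis_basic_opens.exists_subset_of_mem_open hηO O.2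
  have ha : a ≠ 0 := fun h => haη (by rw [h]; exact zero_mem _)
  have hsub : X.basicOpen (scal f a) ≤ f ⁻¹ᵁ O := fun x hx => haO ((mem_basicOpen_scal f x a).1 hx)
  haveI : CompactSpace X := QuasiCompact.compactSpace_of_compactSpace f
  haveI : X.IsSeparated := ⟨by rw [← terminal.comp_from f]; infer_instance⟩
  obtain ⟨hext, -⟩ := QCohLib.localizingAt_of_qcqs L (W := ⊤) CompactSpace.isCompact_univ
    isQuasiSeparated_univ (scal f a)
  obtain ⟨n, s, hs⟩ := hext (res L hsub m)
  refine ⟨s, fun w hw => ?_⟩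
  have hwa : w ∈ X.basicOpen (scal f a) := (mem_basicOpen_scal f w a).2 (by rw [hw]; simpa using ha)
  have hwη : f w = η := PrimeSpectrum.ext (hw.trans asIdeal_genericPoint.symm)
  obtain ⟨z, hz⟩ : w ∈ Set.range (f.fiberι η) := by rw [f.range_fiberι]; exact hwη
  subst hz
  have hg : GenAt L m (hsub hwa) := by
    refine CohCmpLib.genAt_of_puSec (f.fiberι η) hL m (z := z) (hsub hwa) ?_
    refine (AmpleLib.genAt_res hle _ (x := z) trivial).1 ?_
    change GenAt _ (puSecLE (f.fiberι η) L hle m) _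
    rw [hm]
    exact he.genAt (x := z) trivial
  refine (AmpleLib.genAt_res (le_top : X.basicOpen (scal f a) ≤ ⊤) s hwa).1 ?_
  change GenAt L (L.presheaf.map _ s) hwa
  rw [hs]
  refine (AmpleLib.genAt_smul_iff _ _ hwa ((AmpleLib.genAt_res hsub m hwa).2 hg)).2 ?_
  rw [Scheme.mem_basicOpen X _ _ hwa, map_pow, TopCat.Presheaf.germ_res_apply]
  exact ((Scheme.mem_basicOpen X (scal f a) _ trivial).1 hwa).pow n

variable [ValuationRing A]

/-- near a point the section is a scalar multiple of a generator -/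
def Sc (s : Γ(L, ⊤)) (c : A) (z : X) : Prop :=
  ∃ (V : X.Opens) (_ : z ∈ V) (τ : Γ(L, V)), GenOn L τ ∧ res L le_top s = scalOn f V c • τ

theorem isLocalHom_scalAt {z : X} (hz : f z = IsLocalRing.closedPoint A) : IsLocalHom (scalAt f z) := by
  refine ⟨fun a ha => ?_⟩
  rw [isUnit_scalAt_iff, hz] at ha
  exact IsLocalRing.notMem_maximalIdeal.1 ha

/-- The special fibre ideal of a local ring is prime. -/
theorem isPrime_map (hint : IsIntegral (f.fiber (IsLocalRing.closedPoint A))) {z : X}
    (hz : f z = IsLocalRing.closedPoint A) :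
    ((IsLocalRing.maximalIdeal A).map (scalAt f z)).IsPrime := by
  obtain ⟨y, hy⟩ : z ∈ Set.range (f.fiberι (IsLocalRing.closedPoint A)) := by rw [f.range_fiberι]; exact hz
  subst hy
  obtain ⟨hsur, hker⟩ := Groth.Agent.S9501.result f (IsLocalRing.closedPoint A) y
  haveI := hint
  have hp := RingHom.ker_isPrime ((f.fiberι (IsLocalRing.closedPoint A)).stalkMap y).hom
  rw [hker] at hp
  convert hp using 1
  let x := f.fiberι (IsLocalRing.closedPoint A) y
  let g : A →+* (Spec (CommRingCat.of A)).presheaf.stalk (f x) :=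
    ((Spec (CommRingCat.of A)).presheaf.germ ⊤ (f x) trivial).hom.comp (Scheme.ΓSpecIso (CommRingCat.of A)).inv.hom
  have hg : scalAt f x = (f.stalkMap x).hom.comp g := by
    ext a
    exact (Scheme.Hom.germ_stalkMap_apply f ⊤ x trivial _).symm
  show Ideal.map (scalAt f x) _ = Ideal.map (f.stalkMap x).hom (IsLocalRing.maximalIdeal _)
  rw [hg, ← Ideal.map_map]
  congr 1
  letI := g.toAlgebra
  haveI : IsLocalization.AtPrime ((Spec (CommRingCat.of A)).presheaf.stalk (f x)) (f x).asIdeal :=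
    (inferInstance : IsLocalization.AtPrime ((Spec.structureSheaf A).presheaf.stalk (f x)) (f x).asIdeal)
  have e := IsLocalization.AtPrime.map_eq_maximalIdeal (f x).asIdeal ((Spec (CommRingCat.of A)).presheaf.stalk (f x))
  rw [show (f x).asIdeal = IsLocalRing.maximalIdeal A from congrArg PrimeSpectrum.asIdeal hz] at e
  exact e

theorem exists_sc (hL : PicF.IsInvertible L) (hint : IsIntegral (f.fiber (IsLocalRing.closedPoint A)))
    (s : Γ(L, ⊤)) (hs : ∀ w : X, (f w).asIdeal = ⊥ → GenAt L s (show w ∈ (⊤ : X.Opens) from trivial))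
    {z : X} (hz : f z = IsLocalRing.closedPoint A) : ∃ c : A, c ≠ 0 ∧ Sc f s c z := by
  obtain ⟨U, e, hzU, he⟩ := TwistLib.exists_genOn hL z
  obtain ⟨r, hr⟩ := (he U le_rfl).2 (res L (le_top : U ≤ ⊤) s)
  simp only [AmpleLib.res_refl] at hr
  obtain ⟨c, u, hc, hfu⟩ := exists_eq_mul_unit' (scalAt f z) (flat_scalAt f z) (essFiniteType_scalAt f z)
    (isLocalHom_scalAt f hz) (isPrime_map f hint hz) (X.presheaf.germ U z hzU r) (by
    intro q hq hqa hrq
    let p : Spec (X.presheaf.stalk z) := ⟨q, hq⟩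
    let w := X.fromSpecStalk z p
    have hwU : w ∈ U := by
      have : w ∈ Set.range (X.fromSpecStalk z) := ⟨p, rfl⟩
      rw [Scheme.range_fromSpecStalk] at this
      exact Specializes.mem_open (this : w ⤳ z) U.2 hzU
    have key : ∀ (V : X.Opens) (hzV : z ∈ V) (g : Γ(X, V)),
        w ∈ X.basicOpen g ↔ X.presheaf.germ V z hzV g ∉ q := fun V hzV g => mem_basicOpen_stalk p hzV g
    have hw : (f w).asIdeal = ⊥ := by
      refine eq_bot_iff.2 fun a ha => Ideal.mem_bot.2 ?_
      by_contra h0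
      exact (mem_basicOpen_scal f w a).1 ((key ⊤ trivial (scal f a)).2 (hqa a h0)) ha
    have h := (AmpleLib.genAt_res (le_top : U ≤ ⊤) s hwU).2 (hs w hw)
    rw [← hr] at h
    exact (key U hzU r).1 ((AmpleLib.genAt_smul_iff r e hwU (he.genAt hwU)).1 h) hrq)
  obtain ⟨V, hzV, g, hg⟩ := X.presheaf.exists_germ_eq (x := z) (u : X.presheaf.stalk z)
  have hfg : X.presheaf.germ U z hzU r = X.presheaf.germ V z hzV (scalOn f V c * g) := by
    rw [map_mul, germ_scalOn, hg]
    exact hfu
  obtain ⟨T, hzT, i₁, i₂, hT⟩ := TopCat.Presheaf.germ_eq _ _ hzU hzV _ _ hfg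
  let W : X.Opens := T ⊓ X.basicOpen g
  have hWU : W ≤ U := inf_le_left.trans i₁.le
  have hWV : W ≤ V := inf_le_left.trans i₂.le
  let g' : Γ(X, W) := X.presheaf.map (homOfLE hWV).op g
  have hzg : z ∈ X.basicOpen g := (Scheme.mem_basicOpen X g z hzV).2 (hg ▸ u.isUnit)
  refine ⟨c, hc, W, ⟨hzT, hzg⟩, g' • res L hWU e, TwistLib.genOn_of_genAt fun x hx => ?_, ?_⟩
  · refine (AmpleLib.genAt_smul_iff g' _ hx ((he.res hWU).genAt hx)).2 ?_
    rw [Scheme.basicOpen_res]
    exact ⟨hx, hx.2⟩
  · rw [← AmpleLib.res_res L (le_top : U ≤ ⊤) hWU s, ← hr, AmpleLib.res_smul, smul_smul]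
    congr 1
    have h2 := congrArg (X.presheaf.map (homOfLE (inf_le_left : W ≤ T)).op) hT
    simp only [← CommRingCat.comp_apply, ← Functor.map_comp] at h2
    refine Eq.trans ?_ (h2.trans ?_)
    · rfl
    · rw [map_mul]
      exact congrArg₂ (· * ·) (map_scalOn f hWV c) rfl

theorem sc_congr (s : Γ(L, ⊤)) {c c' : A} (h : Associated c c') {z : X} (hc : Sc f s c z) : Sc f s c' z := by
  obtain ⟨e, rfl⟩ := h
  obtain ⟨V, hzV, τ, hτ, hs⟩ := hc
  refine ⟨V, hzV, scalOn f V (↑e⁻¹ : A) • τ, TwistLib.genOn_of_genAt fun x hx => ?_, ?_⟩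
  · refine (AmpleLib.genAt_smul_iff _ τ hx (hτ.genAt hx)).2 ?_
    rw [Scheme.mem_basicOpen X _ x hx, germ_scalOn]
    exact e⁻¹.isUnit.map _
  · rw [hs, smul_smul, ← map_mul, mul_assoc, Units.mul_inv, mul_one]

theorem associated_of_sc (s : Γ(L, ⊤)) {c c' : A} (hc0 : c ≠ 0) (hc0' : c' ≠ 0) {z : X}
    (hz : f z = IsLocalRing.closedPoint A) (hc : Sc f s c z) (hc' : Sc f s c' z) : Associated c c' := by
  obtain ⟨V, hzV, τ, hτ, hs⟩ := hc
  obtain ⟨V', hzV', τ', hτ', hs'⟩ := hc'
  have e := congrArg (L.presheaf.germ V z hzV) hs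
  have e' := congrArg (L.presheaf.germ V' z hzV') hs'
  rw [AmpleLib.germ_res, AmpleLib.germ_smul, germ_scalOn] at e e'
  obtain ⟨u, hu⟩ := (hτ.genAt hzV).2 (L.presheaf.germ V' z hzV' τ')
  obtain ⟨u', hu'⟩ := (hτ'.genAt hzV').2 (L.presheaf.germ V z hzV τ)
  dsimp only at hu hu'
  have huu : u' * u = 1 := (hτ'.genAt hzV').1 (by
    show (u' * u) • _ = (1 : X.presheaf.stalk z) • _
    rw [one_smul, mul_comm, mul_smul, hu', hu])
  have h : scalAt f z c = scalAt f z c' * u := (hτ.genAt hzV).1 (by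
    show scalAt f z c • _ = (scalAt f z c' * u) • _
    rw [mul_smul, hu, ← e, ← e'])
  exact associated_of_eq' (scalAt f z) (flat_scalAt f z) (isLocalHom_scalAt f hz) hc0 hc0'
    (IsUnit.of_mul_eq_one u' (by rw [mul_comm]; exact huu)) h

/-- The module is trivial. -/
theorem nonempty_iso (hL : PicF.IsInvertible L)
    (htriv : Nonempty ((Scheme.Modules.pullback (f.fiberι (genericPoint ↑(Spec (CommRingCat.of A))))).obj L ≅
      Coh.structureModule (f.fiber (genericPoint ↑(Spec (CommRingCat.of A))))))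
    (hint : IsIntegral (f.fiber (IsLocalRing.closedPoint A))) : Nonempty (L ≅ Coh.structureModule X) := by
  classical
  obtain ⟨s, hs⟩ := exists_section f hL htriv
  haveI := hint
  obtain ⟨z₀⟩ := (inferInstance : Nonempty ↥(f.fiber (IsLocalRing.closedPoint A)))
  have hfib : ∀ y, f (f.fiberι (IsLocalRing.closedPoint A) y) = IsLocalRing.closedPoint A := fun y => by
    have : f.fiberι (IsLocalRing.closedPoint A) y ∈ Set.range (f.fiberι (IsLocalRing.closedPoint A)) := ⟨y, rfl⟩
    rwa [f.range_fiberι] at this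
  obtain ⟨c, hc, hscz⟩ := exists_sc f hL hint s hs (hfib z₀)
  let O : A → Set X := fun d => {x | Sc f s d x}
  have hO : ∀ d, IsOpen (O d) := fun d => isOpen_iff_mem_nhds.2 fun x ⟨V, hxV, τ, hτ, e⟩ =>
    Filter.mem_of_superset (V.2.mem_nhds hxV) fun y hy => ⟨V, hy, τ, hτ, e⟩
  have hclosed : ∀ x : X, f x = IsLocalRing.closedPoint A → Sc f s c x := by
    intro x hx
    obtain ⟨y, rfl⟩ : x ∈ Set.range (f.fiberι (IsLocalRing.closedPoint A)) := by rw [f.range_fiberι]; exact hx
    obtain ⟨d, hd, hsd⟩ := exists_sc f hL hint s hs (hfib y)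
    obtain ⟨w, hwc, hwd⟩ := nonempty_preirreducible_inter
      ((hO c).preimage (f.fiberι (IsLocalRing.closedPoint A)).continuous)
      ((hO d).preimage (f.fiberι (IsLocalRing.closedPoint A)).continuous) ⟨z₀, hscz⟩ ⟨y, hsd⟩
    exact sc_congr f s (associated_of_sc f s hd hc (hfib w) hwd hwc) hsd
  have hall : ∀ x : X, Sc f s c x := by
    intro x
    by_contra hx
    have hcl : IsClosed (f '' (O c)ᶜ) := f.isClosedMap _ (hO c).isClosed_compl
    obtain ⟨x', hx', he⟩ : IsLocalRing.closedPoint A ∈ f '' (O c)ᶜ :=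
      hcl.stableUnderSpecialization (IsLocalRing.specializes_closedPoint (f x)) ⟨x, hx, rfl⟩
    exact hx' (hclosed x' he)
  choose V hxV τ hτ he using hall
  obtain ⟨t, ht, -⟩ := TopCat.Sheaf.existsUnique_gluing' (⟨L.presheaf, L.isSheaf⟩ : TopCat.Sheaf Ab X) V ⊤
    (fun x => homOfLE le_top) (fun x _ => Opens.mem_iSup.2 ⟨x, hxV x⟩) τ (by
      intro x y
      refine cancel_smul f hL (a := c) hc ?_
      have ex := congrArg (res L (inf_le_left : V x ⊓ V y ≤ V x)) (he x)
      have ey := congrArg (res L (inf_le_right : V x ⊓ V y ≤ V y)) (he y)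
      rw [AmpleLib.res_res, AmpleLib.res_smul, map_scalOn] at ex ey
      exact ex.symm.trans ey)
  have hgen : GenOn L t := TwistLib.genOn_of_genAt fun x _ => by
    refine (AmpleLib.genAt_res (le_top : V x ≤ ⊤) t (hxV x)).1 ?_
    change GenAt L (L.presheaf.map (homOfLE le_top).op t) (hxV x)
    rw [show L.presheaf.map (homOfLE le_top).op t = τ x from ht x]
    exact (hτ x).genAt (hxV x)
  haveI := AmpleLib.isIso_unitHom t hgen
  exact ⟨(asIso (QCohLib.unitHom L t)).symm⟩

end ValTrivLib

end
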