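import Groth.Agent.S1216
import Mathlib.RingTheory.Flat.FaithfullyFlat.Basic

/-!
# Functions invertible off the special fibre over a valuation ring
-/

set_option autoImplicit false
universe u

namespace ValTrivLib

variable {A B : Type u} [CommRing A] [IsDomain A] [ValuationRing A] [CommRing B] [IsLocalRing B] [Algebra A B]
  [IsLocalHom (algebraMap A B)] [Algebra.EssFiniteType A B] [Module.Flat A B]

omit [IsLocalHom (algebraMap A B)] [Algebra.EssFiniteType A B] [IsLocalRing B] [ValuationRing A] in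
theorem mul_cancel {a : A} (ha : a ≠ 0) {x y : B} (h : algebraMap A B a * x = algebraMap A B a * y) : x = y := by
  have hr : IsSMulRegular B a := Module.Flat.isSMulRegular_of_nonZeroDivisors (mem_nonZeroDivisors_of_ne_zero ha)
  refine hr ?_
  simpa [Algebra.smul_def] using h

omit [IsLocalHom (algebraMap A B)] [Algebra.EssFiniteType A B] [IsLocalRing B] [Module.Flat A B] in
theorem exists_dvd_of_mem_map {t : B} (ht : t ∈ (IsLocalRing.maximalIdeal A).map (algebraMap A B)) :
    ∃ e ∈ IsLocalRing.maximalIdeal A, algebraMap A B e ∣ t := by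
  refine Submodule.span_induction ?_ ⟨0, zero_mem _, dvd_zero _⟩ ?_ ?_ ht
  · rintro _ ⟨e, he, rfl⟩
    exact ⟨e, he, dvd_rfl⟩
  · rintro x y - - ⟨e, he, hx⟩ ⟨e', he', hy⟩
    obtain ⟨c, hc | hc⟩ := ValuationRing.cond e e'
    · exact ⟨e, he, dvd_add hx (dvd_trans ⟨algebraMap A B c, by rw [← map_mul, hc]⟩ hy)⟩
    · exact ⟨e', he', dvd_add (dvd_trans ⟨algebraMap A B c, by rw [← map_mul, hc]⟩ hx) hy⟩
  · rintro r x - ⟨e, he, hx⟩
    exact ⟨e, he, Dvd.dvd.mul_left hx r⟩

/-- Every nonzero element is a scalar times an element outside the special fibre. -/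
theorem exists_content {f : B} (hf : f ≠ 0) :
    ∃ (c : A) (t : B), c ≠ 0 ∧ f = algebraMap A B c * t ∧
      t ∉ (IsLocalRing.maximalIdeal A).map (algebraMap A B) := by
  obtain ⟨I, hI, hmem, hmin⟩ := Groth.Agent.S1216.result (A := A) (B := B) B f
  obtain ⟨c, rfl⟩ := hI.principal
  change f ∈ Ideal.span {c} • (⊤ : Submodule A B) at hmem
  rw [Submodule.ideal_span_singleton_smul, Submodule.mem_smul_pointwise_iff_exists] at hmem
  obtain ⟨t, -, rfl⟩ := hmem
  rw [Algebra.smul_def] at hf hmin ⊢
  have hc : c ≠ 0 := fun h => hf (by rw [h, map_zero, zero_mul])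
  refine ⟨c, t, hc, rfl, fun ht => ?_⟩
  obtain ⟨e, he, s, hs⟩ := exists_dvd_of_mem_map ht
  have hle := hmin (Ideal.span {c * e}) (by
    rw [Submodule.ideal_span_singleton_smul, Submodule.mem_smul_pointwise_iff_exists]
    exact ⟨s, Submodule.mem_top, by rw [Algebra.smul_def, map_mul, hs, mul_assoc]⟩)
  obtain ⟨y, hy⟩ := Ideal.mem_span_singleton'.1 (hle (Submodule.mem_span_singleton_self c))
  refine (IsLocalRing.mem_maximalIdeal e).1 he (IsUnit.of_mul_eq_one y ?_)
  refine mul_left_cancel₀ hc ?_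
  rw [mul_one]
  linear_combination hy

/-- A function with no zero on the generic fibre is a scalar times a unit, if the special fibre is a domain. -/
theorem exists_eq_mul_unit (hP : ((IsLocalRing.maximalIdeal A).map (algebraMap A B)).IsPrime) (f : B)
    (hgen : ∀ q : Ideal B, q.IsPrime → (∀ a : A, a ≠ 0 → algebraMap A B a ∉ q) → f ∉ q) :
    ∃ (c : A) (u : Bˣ), c ≠ 0 ∧ f = algebraMap A B c * u := by
  obtain ⟨a, ha, h, hh⟩ : ∃ a : A, a ≠ 0 ∧ ∃ h, f * h = algebraMap A B a := by
    by_contra hne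
    let M : Submonoid B := (nonZeroDivisors A).map (algebraMap A B)
    have hdis : Disjoint (Ideal.span {f} : Set B) (M : Set B) := by
      rw [Set.disjoint_left]
      rintro x hx ⟨a, ha, rfl⟩
      obtain ⟨y, hy⟩ := Ideal.mem_span_singleton'.1 hx
      exact hne ⟨a, nonZeroDivisors.ne_zero ha, y, by rw [mul_comm, hy]⟩
    obtain ⟨q, hq, hle, hqd⟩ := Ideal.exists_le_prime_disjoint _ M hdis
    exact hgen q hq (fun a ha hmem => Set.disjoint_left.1 hqd hmem ⟨a, mem_nonZeroDivisors_of_ne_zero ha, rfl⟩)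
      (hle (Ideal.mem_span_singleton_self f))
  have ha0 : algebraMap A B a ≠ 0 := fun h0 => one_ne_zero (α := B)
    (mul_cancel ha (by rw [h0, zero_mul, zero_mul]))
  obtain ⟨c, t, hc, hft, ht⟩ := exists_content (A := A) (f := f) (fun h0 => ha0 (by rw [← hh, h0, zero_mul]))
  obtain ⟨d, v, hd, hhv, hv⟩ := exists_content (A := A) (f := h) (fun h0 => ha0 (by rw [← hh, h0, mul_zero]))
  have heq : algebraMap A B (c * d) * (t * v) = algebraMap A B a := by
    rw [← hh, hft, hhv, map_mul]; ring
  have htv := fun h => (hP.mem_or_mem h).elim ht hv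
  have hu : IsUnit (t * v) := by
    obtain ⟨e, he | he⟩ := ValuationRing.cond (c * d) a
    · have h1 : t * v = algebraMap A B e := by
        refine mul_cancel (mul_ne_zero hc hd) ?_
        rw [heq, ← he, map_mul]
      by_cases hE : IsUnit e
      · rw [h1]; exact hE.map _
      · exact absurd (h1 ▸ Ideal.mem_map_of_mem _ ((IsLocalRing.mem_maximalIdeal e).2 hE) :
          t * v ∈ (IsLocalRing.maximalIdeal A).map (algebraMap A B)) htv
    · have h1 : algebraMap A B e * (t * v) = 1 := by
        refine mul_cancel ha ?_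
        rw [← mul_assoc, ← map_mul, he, heq, mul_one]
      exact IsUnit.of_mul_eq_one _ (by rw [mul_comm]; exact h1)
  obtain ⟨u, hu⟩ := isUnit_of_mul_isUnit_left hu
  exact ⟨c, u, hc, by rw [hu, hft]⟩

omit [Algebra.EssFiniteType A B] in
/-- The scalar is unique up to units. -/
theorem associated_of_eq {c c' : A} (hc : c ≠ 0) (hc' : c' ≠ 0) {u : B} (hu : IsUnit u)
    (h : algebraMap A B c = algebraMap A B c' * u) : Associated c c' := by
  obtain ⟨e, he | he⟩ := ValuationRing.cond c c'
  · have h1 : algebraMap A B e * u = 1 := by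
      refine mul_cancel hc ?_
      rw [← mul_assoc, ← map_mul, he, ← h, mul_one]
    have : IsUnit e := isUnit_of_map_unit (algebraMap A B) _ (IsUnit.of_mul_eq_one _ h1)
    exact ⟨this.unit, he⟩
  · have h1 : u = algebraMap A B e := by
      refine mul_cancel hc' ?_
      rw [← h, ← he, map_mul]
    have : IsUnit e := isUnit_of_map_unit (algebraMap A B) _ (h1 ▸ hu)
    exact (Associated.symm ⟨this.unit, he⟩)

end ValTrivLib

namespace ValTrivLib

variable {A B : Type u} [CommRing A] [IsDomain A] [ValuationRing A] [CommRing B] [IsLocalRing B]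

/-- `exists_eq_mul_unit` for a ring homomorphism. -/
theorem exists_eq_mul_unit' (φ : A →+* B) (hfl : φ.Flat) (hft : φ.EssFiniteType) (hloc : IsLocalHom φ)
    (hP : ((IsLocalRing.maximalIdeal A).map φ).IsPrime) (f : B)
    (hgen : ∀ q : Ideal B, q.IsPrime → (∀ a : A, a ≠ 0 → φ a ∉ q) → f ∉ q) :
    ∃ (c : A) (u : Bˣ), c ≠ 0 ∧ f = φ c * u := by
  letI := φ.toAlgebra
  haveI : Module.Flat A B := hfl
  haveI : Algebra.EssFiniteType A B := hft
  haveI : IsLocalHom (algebraMap A B) := hloc
  exact exists_eq_mul_unit hP f hgen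

/-- `associated_of_eq` for a ring homomorphism. -/
theorem associated_of_eq' (φ : A →+* B) (hfl : φ.Flat) (hloc : IsLocalHom φ) {c c' : A} (hc : c ≠ 0) (hc' : c' ≠ 0)
    {u : B} (hu : IsUnit u) (h : φ c = φ c' * u) : Associated c c' := by
  letI := φ.toAlgebra
  haveI : Module.Flat A B := hfl
  haveI : IsLocalHom (algebraMap A B) := hloc
  exact associated_of_eq hc hc' hu h

end ValTrivLib
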